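import Groth.Agent.H40.DF.Tr

/-!
# Transport for pulled-back descent data; isomorphisms of descent data from isomorphic components
-/

set_option autoImplicit false
set_option backward.isDefEq.respectTransparency.types false
universe w' w u

open CategoryTheory CategoryTheory.Limits AlgebraicGeometry

namespace Groth.Agent.H40.DF

open Desc

variable {S : Scheme.{u}} {ι : Type w} {X : ι → Scheme.{u}} {f : ∀ i, X i ⟶ S}

section pull

variable {S' : Scheme.{u}} {ι' : Type w'} {X' : ι' → Scheme.{u}} {f' : ∀ j, X' j ⟶ S'}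
  {α : ι' → ι} {p : S' ⟶ S} {p' : ∀ j, X' j ⟶ X (α j)} (w : ∀ j, p' j ≫ f (α j) = f' j ≫ p)
  (D : Desc.SchDDFam f)

@[simp] theorem pull_obj_left (j : ι') :
    ((pullDDFamObj w D).obj j).left = pullback (D.obj (α j)).hom (p' j) := rfl

@[simp] theorem pull_obj_hom (j : ι') :
    ((pullDDFamObj w D).obj j).hom = pullback.snd (D.obj (α j)).hom (p' j) := rfl

include w in
theorem pull_aux {T : Scheme.{u}} {j₀ j₁ : ι'}
    (v : T ⟶ pullback (D.obj (α j₀)).hom (p' j₀)) (x₁ : T ⟶ X' j₁)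
    (h : (v ≫ pullback.snd (D.obj (α j₀)).hom (p' j₀)) ≫ f' j₀ = x₁ ≫ f' j₁) :
    ((v ≫ pullback.fst (D.obj (α j₀)).hom (p' j₀)) ≫ (D.obj (α j₀)).hom) ≫ f (α j₀) =
      (x₁ ≫ p' j₁) ≫ f (α j₁) := by
  have := pull_compat w (v ≫ pullback.snd (D.obj (α j₀)).hom (p' j₀)) x₁ h
  rw [← this]
  simp only [Category.assoc]
  rw [pullback.condition_assoc]

theorem tr_pull_fst {T : Scheme.{u}} {j₀ j₁ : ι'}
    (v : T ⟶ pullback (D.obj (α j₀)).hom (p' j₀)) (x₁ : T ⟶ X' j₁)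
    (h : (v ≫ pullback.snd (D.obj (α j₀)).hom (p' j₀)) ≫ f' j₀ = x₁ ≫ f' j₁) :
    tr (pullDDFamObj w D) (i := j₀) (j := j₁) v x₁ h ≫ pullback.fst (D.obj (α j₁)).hom (p' j₁) =
      tr D (v ≫ pullback.fst (D.obj (α j₀)).hom (p' j₀)) (x₁ ≫ p' j₁) (pull_aux w D v x₁ h) := by
  unfold tr
  change (pullback.lift _ _ _) ≫ pullback.fst (D.obj (α j₁)).hom (p' j₁) = _
  rw [pullback.lift_fst]
  have e : (v ≫ pullback.snd (D.obj (α j₀)).hom (p' j₀)) ≫ p' j₀ =
      (v ≫ pullback.fst (D.obj (α j₀)).hom (p' j₀)) ≫ (D.obj (α j₀)).hom := by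
    rw [Category.assoc, Category.assoc, pullback.condition]
  exact phi_congr D e rfl _ _ _ _ rfl

theorem tr_pull_snd {T : Scheme.{u}} {j₀ j₁ : ι'}
    (v : T ⟶ pullback (D.obj (α j₀)).hom (p' j₀)) (x₁ : T ⟶ X' j₁)
    (h : (v ≫ pullback.snd (D.obj (α j₀)).hom (p' j₀)) ≫ f' j₀ = x₁ ≫ f' j₁) :
    tr (pullDDFamObj w D) (i := j₀) (j := j₁) v x₁ h ≫ pullback.snd (D.obj (α j₁)).hom (p' j₁) =
      x₁ :=
  tr_hom (pullDDFamObj w D) (i := j₀) (j := j₁) v x₁ h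

theorem tr_pull_ext {T : Scheme.{u}} {j₀ j₁ : ι'}
    (v : T ⟶ pullback (D.obj (α j₀)).hom (p' j₀)) (x₁ : T ⟶ X' j₁)
    (h : (v ≫ pullback.snd (D.obj (α j₀)).hom (p' j₀)) ≫ f' j₀ = x₁ ≫ f' j₁)
    (t : T ⟶ pullback (D.obj (α j₁)).hom (p' j₁))
    (h1 : t ≫ pullback.fst (D.obj (α j₁)).hom (p' j₁) =
      tr D (v ≫ pullback.fst (D.obj (α j₀)).hom (p' j₀)) (x₁ ≫ p' j₁) (pull_aux w D v x₁ h))
    (h2 : t ≫ pullback.snd (D.obj (α j₁)).hom (p' j₁) = x₁) :
    t = tr (pullDDFamObj w D) (i := j₀) (j := j₁) v x₁ h := by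
  apply pullback.hom_ext
  · exact h1.trans (tr_pull_fst w D v x₁ h).symm
  · exact h2.trans (tr_pull_snd w D v x₁ h).symm

@[reassoc]
theorem pullMap_fst {D D' : Desc.SchDDFam f} (a : D ⟶ D') (j : ι') :
    (((pullDDFam w).map a).hom j).left ≫ pullback.fst (D'.obj (α j)).hom (p' j) =
      pullback.fst (D.obj (α j)).hom (p' j) ≫ (a.hom (α j)).left :=
  pullback.lift_fst _ _ _

@[reassoc]
theorem pullMap_snd {D D' : Desc.SchDDFam f} (a : D ⟶ D') (j : ι') :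
    (((pullDDFam w).map a).hom j).left ≫ pullback.snd (D'.obj (α j)).hom (p' j) =
      pullback.snd (D.obj (α j)).hom (p' j) :=
  (pullback.lift_snd _ _ _).trans (Category.comp_id _)

end pull

/-- a morphism of descent data whose components are isomorphisms is an isomorphism. -/
theorem isIso_of_isIso_hom {E E' : Desc.SchDDFam f} (a : E ⟶ E') [∀ i, IsIso (a.hom i)] :
    IsIso a := by
  refine ⟨⟨fun i => inv (a.hom i), ?_⟩, ?_, ?_⟩
  · intro T i j x₀ x₁ h v w hw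
    have hv : v.1 = w.1 ≫ (a.hom i).left := by
      rw [hw, Category.assoc, ← Over.comp_left, IsIso.inv_hom_id, Over.id_left, Category.comp_id]
    have key := a.comm x₀ x₁ h w v hv
    rw [key, Category.assoc, ← Over.comp_left, IsIso.hom_inv_id, Over.id_left, Category.comp_id]
  · ext i
    simp
  · ext i
    simp

end Groth.Agent.H40.DF
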