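import Groth.Agent.H40.DF.Pull

/-!
# The pullback of a canonical descent datum is the canonical descent datum of the base change
-/

set_option autoImplicit false
set_option backward.isDefEq.respectTransparency.types false
universe w' w u

open CategoryTheory CategoryTheory.Limits AlgebraicGeometry

namespace Groth.Agent.H40.DF

open Desc

variable {S : Scheme.{u}} {ι : Type w} {X : ι → Scheme.{u}} {f : ∀ i, X i ⟶ S}

theorem tr_can_fst (U : Over S) {T : Scheme.{u}} {i j : ι}
    (v : T ⟶ pullback (f i) U.hom) (x₁ : T ⟶ X j)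
    (h : (v ≫ pullback.fst (f i) U.hom) ≫ f i = x₁ ≫ f j) :
    tr (canonicalDDFam f U) (i := i) (j := j) v x₁ h ≫ pullback.fst (f j) U.hom = x₁ :=
  tr_hom (canonicalDDFam f U) (i := i) (j := j) v x₁ h

theorem tr_can_snd (U : Over S) {T : Scheme.{u}} {i j : ι}
    (v : T ⟶ pullback (f i) U.hom) (x₁ : T ⟶ X j)
    (h : (v ≫ pullback.fst (f i) U.hom) ≫ f i = x₁ ≫ f j) :
    tr (canonicalDDFam f U) (i := i) (j := j) v x₁ h ≫ pullback.snd (f j) U.hom =
      v ≫ pullback.snd (f i) U.hom := by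
  unfold tr
  change (canMapFam f U _ x₁ h ⟨v, rfl⟩).1 ≫ pullback.snd (f j) U.hom = _
  rw [canMapFam_val, pullback.lift_snd]

variable {S' : Scheme.{u}} {ι' : Type w'} {X' : ι' → Scheme.{u}} {f' : ∀ j, X' j ⟶ S'}
  {α : ι' → ι} {p : S' ⟶ S} {p' : ∀ j, X' j ⟶ X (α j)} (w : ∀ j, p' j ≫ f (α j) = f' j ≫ p)
  (U : Over S)

/-- `X' ×_{S'} (U ×_S S') ⟶ (X ×_S U) ×_X X'`. -/
noncomputable def bcL (j : ι') :
    pullback (f' j) (pullback.snd U.hom p) ⟶
      pullback (pullback.fst (f (α j)) U.hom) (p' j) :=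
  pullback.lift
    (pullback.lift (pullback.fst _ _ ≫ p' j) (pullback.snd _ _ ≫ pullback.fst _ _) (by
      rw [Category.assoc, w, ← Category.assoc, pullback.condition, Category.assoc, Category.assoc,
        pullback.condition]))
    (pullback.fst _ _) (by rw [pullback.lift_fst])

@[reassoc (attr := simp)]
theorem bcL_fst_fst (j : ι') : bcL w U j ≫ pullback.fst _ _ ≫ pullback.fst _ _ =
    pullback.fst _ _ ≫ p' j := by
  unfold bcL
  rw [pullback.lift_fst_assoc, pullback.lift_fst]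

@[reassoc (attr := simp)]
theorem bcL_fst_snd (j : ι') : bcL w U j ≫ pullback.fst _ _ ≫ pullback.snd _ _ =
    pullback.snd _ _ ≫ pullback.fst _ _ := by
  unfold bcL
  rw [pullback.lift_fst_assoc, pullback.lift_snd]

@[reassoc (attr := simp)]
theorem bcL_snd (j : ι') : bcL w U j ≫ pullback.snd _ _ = pullback.fst _ _ :=
  pullback.lift_snd _ _ _

/-- `(X ×_S U) ×_X X' ⟶ X' ×_{S'} (U ×_S S')`. -/
noncomputable def bcR (j : ι') :
    pullback (pullback.fst (f (α j)) U.hom) (p' j) ⟶
      pullback (f' j) (pullback.snd U.hom p) :=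
  pullback.lift (pullback.snd _ _)
    (pullback.lift (pullback.fst _ _ ≫ pullback.snd _ _) (pullback.snd _ _ ≫ f' j) (by
      rw [Category.assoc, ← pullback.condition, ← Category.assoc, pullback.condition,
        Category.assoc, w, Category.assoc]))
    (by rw [pullback.lift_snd])

@[reassoc (attr := simp)]
theorem bcR_fst (j : ι') : bcR w U j ≫ pullback.fst _ _ = pullback.snd _ _ :=
  pullback.lift_fst _ _ _

@[reassoc (attr := simp)]
theorem bcR_snd_fst (j : ι') : bcR w U j ≫ pullback.snd _ _ ≫ pullback.fst _ _ =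
    pullback.fst _ _ ≫ pullback.snd _ _ := by
  unfold bcR
  rw [pullback.lift_snd_assoc, pullback.lift_fst]

@[reassoc (attr := simp)]
theorem bcR_snd_snd (j : ι') : bcR w U j ≫ pullback.snd _ _ ≫ pullback.snd _ _ =
    pullback.snd _ _ ≫ f' j := by
  unfold bcR
  rw [pullback.lift_snd_assoc, pullback.lift_snd]

theorem bcL_bcR (j : ι') : bcL w U j ≫ bcR w U j = 𝟙 _ := by
  apply pullback.hom_ext
  · rw [Category.assoc, bcR_fst, bcL_snd, Category.id_comp]
  · apply pullback.hom_ext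
    · rw [Category.assoc, Category.assoc, bcR_snd_fst, bcL_fst_snd, Category.id_comp]
    · rw [Category.assoc, Category.assoc, bcR_snd_snd, bcL_snd_assoc, Category.id_comp,
        pullback.condition]

theorem bcR_bcL (j : ι') : bcR w U j ≫ bcL w U j = 𝟙 _ := by
  apply pullback.hom_ext
  · apply pullback.hom_ext
    · rw [Category.assoc, Category.assoc, bcL_fst_fst, bcR_fst_assoc, Category.id_comp,
        pullback.condition]
    · rw [Category.assoc, Category.assoc, bcL_fst_snd, bcR_snd_fst, Category.id_comp]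
  · rw [Category.assoc, bcL_snd, bcR_fst, Category.id_comp]

theorem bcL_ext (j : ι') {T : Scheme.{u}}
    (t₁ : T ⟶ pullback (f' j) (pullback.snd U.hom p))
    (t₂ : T ⟶ pullback (pullback.fst (f (α j)) U.hom) (p' j))
    (h1 : (t₁ ≫ pullback.snd _ _) ≫ pullback.fst _ _ =
      (t₂ ≫ pullback.fst _ _) ≫ pullback.snd _ _)
    (h2 : t₁ ≫ pullback.fst _ _ = t₂ ≫ pullback.snd _ _) :
    t₁ ≫ bcL w U j = t₂ := by
  apply pullback.hom_ext
  · apply pullback.hom_ext
    · rw [Category.assoc, Category.assoc, bcL_fst_fst, ← Category.assoc, h2, Category.assoc,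
        Category.assoc, pullback.condition]
    · rw [Category.assoc, Category.assoc, bcL_fst_snd, ← Category.assoc]
      exact h1
  · rw [Category.assoc, bcL_snd]
    exact h2

theorem bc_comm_aux {T : Scheme.{u}} {j₀ j₁ : ι'}
    (v : T ⟶ pullback (f' j₀) (pullback.snd U.hom p)) (x₁ : T ⟶ X' j₁)
    (h : (v ≫ pullback.fst (f' j₀) (pullback.snd U.hom p)) ≫ f' j₀ = x₁ ≫ f' j₁)
    (h' : ((v ≫ bcL w U j₀) ≫ pullback.snd (pullback.fst (f (α j₀)) U.hom) (p' j₀)) ≫ f' j₀ =
      x₁ ≫ f' j₁) :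
    tr (canonicalDDFam f' (Over.mk (pullback.snd U.hom p))) (i := j₀) (j := j₁) v x₁ h ≫
        bcL w U j₁ =
      tr (pullDDFamObj w (canonicalDDFam f U)) (i := j₀) (j := j₁) (v ≫ bcL w U j₀) x₁ h' := by
  have e1 := tr_can_fst (f := f') (Over.mk (pullback.snd U.hom p)) (i := j₀) (j := j₁) v x₁ h
  have e2 := tr_can_snd (f := f') (Over.mk (pullback.snd U.hom p)) (i := j₀) (j := j₁) v x₁ h
  have e3 := tr_pull_fst w (canonicalDDFam f U) (j₀ := j₀) (j₁ := j₁) (v ≫ bcL w U j₀) x₁ h'
  have e4 := tr_pull_snd w (canonicalDDFam f U) (j₀ := j₀) (j₁ := j₁) (v ≫ bcL w U j₀) x₁ h'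
  have e5 := tr_can_snd (f := f) U (i := α j₀) (j := α j₁)
    ((v ≫ bcL w U j₀) ≫ pullback.fst (pullback.fst (f (α j₀)) U.hom) (p' j₀)) (x₁ ≫ p' j₁)
    (pull_aux w (canonicalDDFam f U) (j₀ := j₀) (j₁ := j₁) (v ≫ bcL w U j₀) x₁ h')
  apply bcL_ext
  · refine Eq.trans (congrArg (· ≫ pullback.fst U.hom p) e2) ?_
    refine Eq.trans ?_ (congrArg (· ≫ pullback.snd (f (α j₁)) U.hom) e3.symm)
    refine Eq.trans ?_ e5.symm
    rw [Category.assoc, Category.assoc, Category.assoc, bcL_fst_snd]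
    rfl
  · exact e1.trans e4.symm

/-- the comparison morphism of descent data. -/
noncomputable def bcHom : canonicalDDFam f' (Over.mk (pullback.snd U.hom p)) ⟶
    pullDDFamObj w (canonicalDDFam f U) where
  hom j := Over.homMk (bcL w U j) (bcL_snd w U j)
  comm := by
    apply comm_of_tr
    intro T j₀ j₁ v x₁ h h'
    exact bc_comm_aux w U v x₁ h h'

theorem isIso_bcHom_hom (j : ι') : IsIso ((bcHom w U).hom j) := by
  refine ⟨Over.homMk (bcR w U j) (bcR_fst w U j), ?_, ?_⟩
  · ext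
    exact bcL_bcR w U j
  · ext
    exact bcR_bcL w U j

theorem isIso_bcHom : IsIso (bcHom w U) :=
  haveI := isIso_bcHom_hom w U
  isIso_of_isIso_hom _

/-- the pullback of the canonical descent datum of `U` is the canonical descent datum of the
base change of `U`. -/
noncomputable def bcIso : (toDDFam f').obj (Over.mk (pullback.snd U.hom p)) ≅
    (pullDDFam w).obj ((toDDFam f).obj U) :=
  @asIso _ _ _ _ (bcHom w U) (isIso_bcHom w U)

end Groth.Agent.H40.DF
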