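import Groth.Agent.H40.DF.Pull

/-!
# Pulling descent data back along a composite of morphisms of families
-/

set_option autoImplicit false
set_option backward.isDefEq.respectTransparency.types false
universe w u

open CategoryTheory CategoryTheory.Limits AlgebraicGeometry

namespace Groth.Agent.H40.DF

open Desc

variable {S S' S'' : Scheme.{u}} {ι ι' ι'' : Type w} {X : ι → Scheme.{u}} {X' : ι' → Scheme.{u}}
  {X'' : ι'' → Scheme.{u}} {f : ∀ i, X i ⟶ S} {f' : ∀ j, X' j ⟶ S'} {f'' : ∀ k, X'' k ⟶ S''}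
  {α₁ : ι' → ι} {p₁ : S' ⟶ S} {p'₁ : ∀ j, X' j ⟶ X (α₁ j)}
  (w₁ : ∀ j, p'₁ j ≫ f (α₁ j) = f' j ≫ p₁)
  {α₂ : ι'' → ι'} {p₂ : S'' ⟶ S'} {p'₂ : ∀ k, X'' k ⟶ X' (α₂ k)}
  (w₂ : ∀ k, p'₂ k ≫ f' (α₂ k) = f'' k ≫ p₂)

include w₁ w₂ in
theorem comp_w (k : ι'') :
    (p'₂ k ≫ p'₁ (α₂ k)) ≫ f (α₁ (α₂ k)) = f'' k ≫ p₂ ≫ p₁ := by
  rw [Category.assoc, w₁, ← Category.assoc, w₂, Category.assoc]

variable (D : Desc.SchDDFam f)

/-- `(V ×_X X') ×_{X'} X'' ⟶ V ×_X X''`. -/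
noncomputable def compL (k : ι'') :
    pullback (pullback.snd (D.obj (α₁ (α₂ k))).hom (p'₁ (α₂ k))) (p'₂ k) ⟶
      pullback (D.obj (α₁ (α₂ k))).hom (p'₂ k ≫ p'₁ (α₂ k)) :=
  pullback.lift (pullback.fst _ _ ≫ pullback.fst _ _) (pullback.snd _ _) (by
    rw [Category.assoc, pullback.condition, ← Category.assoc, pullback.condition, Category.assoc])

@[reassoc (attr := simp)]
theorem compL_fst (k : ι'') : compL (p'₁ := p'₁) (p'₂ := p'₂) D k ≫ pullback.fst _ _ =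
    pullback.fst _ _ ≫ pullback.fst _ _ := pullback.lift_fst _ _ _

@[reassoc (attr := simp)]
theorem compL_snd (k : ι'') : compL (p'₁ := p'₁) (p'₂ := p'₂) D k ≫ pullback.snd _ _ =
    pullback.snd _ _ := pullback.lift_snd _ _ _

/-- `V ×_X X'' ⟶ (V ×_X X') ×_{X'} X''`. -/
noncomputable def compR (k : ι'') :
    pullback (D.obj (α₁ (α₂ k))).hom (p'₂ k ≫ p'₁ (α₂ k)) ⟶
      pullback (pullback.snd (D.obj (α₁ (α₂ k))).hom (p'₁ (α₂ k))) (p'₂ k) :=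
  pullback.lift (pullback.lift (pullback.fst _ _) (pullback.snd _ _ ≫ p'₂ k) (by
    rw [pullback.condition, Category.assoc])) (pullback.snd _ _) (by rw [pullback.lift_snd])

@[reassoc (attr := simp)]
theorem compR_fst_fst (k : ι'') : compR (p'₁ := p'₁) (p'₂ := p'₂) D k ≫ pullback.fst _ _ ≫
    pullback.fst _ _ = pullback.fst _ _ := by
  unfold compR
  rw [pullback.lift_fst_assoc, pullback.lift_fst]

@[reassoc (attr := simp)]
theorem compR_fst_snd (k : ι'') : compR (p'₁ := p'₁) (p'₂ := p'₂) D k ≫ pullback.fst _ _ ≫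
    pullback.snd _ _ = pullback.snd _ _ ≫ p'₂ k := by
  unfold compR
  rw [pullback.lift_fst_assoc, pullback.lift_snd]

@[reassoc (attr := simp)]
theorem compR_snd (k : ι'') : compR (p'₁ := p'₁) (p'₂ := p'₂) D k ≫ pullback.snd _ _ =
    pullback.snd _ _ := pullback.lift_snd _ _ _

theorem compL_compR (k : ι'') :
    compL (p'₁ := p'₁) (p'₂ := p'₂) D k ≫ compR (p'₁ := p'₁) (p'₂ := p'₂) D k = 𝟙 _ := by
  apply pullback.hom_ext
  · apply pullback.hom_ext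
    · rw [Category.assoc, Category.assoc, compR_fst_fst, compL_fst, Category.id_comp]
    · rw [Category.assoc, Category.assoc, compR_fst_snd, compL_snd_assoc, Category.id_comp,
        pullback.condition]
  · rw [Category.assoc, compR_snd, compL_snd, Category.id_comp]

theorem compR_compL (k : ι'') :
    compR (p'₁ := p'₁) (p'₂ := p'₂) D k ≫ compL (p'₁ := p'₁) (p'₂ := p'₂) D k = 𝟙 _ := by
  apply pullback.hom_ext
  · rw [Category.assoc, compL_fst, compR_fst_fst, Category.id_comp]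
  · rw [Category.assoc, compL_snd, compR_snd, Category.id_comp]

theorem compL_ext (k : ι'') {T : Scheme.{u}}
    (t₁ : T ⟶ pullback (pullback.snd (D.obj (α₁ (α₂ k))).hom (p'₁ (α₂ k))) (p'₂ k))
    (t₂ : T ⟶ pullback (D.obj (α₁ (α₂ k))).hom (p'₂ k ≫ p'₁ (α₂ k)))
    (h1 : (t₁ ≫ pullback.fst _ _) ≫ pullback.fst _ _ = t₂ ≫ pullback.fst _ _)
    (h2 : t₁ ≫ pullback.snd _ _ = t₂ ≫ pullback.snd _ _) :
    t₁ ≫ compL (p'₁ := p'₁) (p'₂ := p'₂) D k = t₂ := by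
  apply pullback.hom_ext
  · rw [Category.assoc, compL_fst, ← Category.assoc]
    exact h1
  · rw [Category.assoc, compL_snd]
    exact h2

theorem comp_comm_aux {T : Scheme.{u}} {k₀ k₁ : ι''}
    (v : T ⟶ pullback (pullback.snd (D.obj (α₁ (α₂ k₀))).hom (p'₁ (α₂ k₀))) (p'₂ k₀))
    (x₁ : T ⟶ X'' k₁)
    (h : (v ≫ pullback.snd (pullback.snd (D.obj (α₁ (α₂ k₀))).hom (p'₁ (α₂ k₀))) (p'₂ k₀)) ≫
      f'' k₀ = x₁ ≫ f'' k₁)
    (h' : ((v ≫ compL (p'₁ := p'₁) (p'₂ := p'₂) D k₀) ≫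
      pullback.snd (D.obj (α₁ (α₂ k₀))).hom (p'₂ k₀ ≫ p'₁ (α₂ k₀))) ≫ f'' k₀ = x₁ ≫ f'' k₁) :
    tr (pullDDFamObj w₂ (pullDDFamObj w₁ D)) (i := k₀) (j := k₁) v x₁ h ≫
        compL (p'₁ := p'₁) (p'₂ := p'₂) D k₁ =
      tr (pullDDFamObj (α := fun k => α₁ (α₂ k)) (p := p₂ ≫ p₁)
        (p' := fun k => p'₂ k ≫ p'₁ (α₂ k)) (comp_w w₁ w₂) D) (i := k₀) (j := k₁)
        (v ≫ compL (p'₁ := p'₁) (p'₂ := p'₂) D k₀) x₁ h' := by
  have e1 := tr_pull_fst w₂ (pullDDFamObj w₁ D) (j₀ := k₀) (j₁ := k₁) v x₁ h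
  have e2 := tr_pull_fst w₁ D (j₀ := α₂ k₀) (j₁ := α₂ k₁)
    (v ≫ pullback.fst (pullback.snd (D.obj (α₁ (α₂ k₀))).hom (p'₁ (α₂ k₀))) (p'₂ k₀))
    (x₁ ≫ p'₂ k₁) (pull_aux w₂ (pullDDFamObj w₁ D) (j₀ := k₀) (j₁ := k₁) v x₁ h)
  have e3 := tr_pull_fst (α := fun k => α₁ (α₂ k)) (p := p₂ ≫ p₁)
    (p' := fun k => p'₂ k ≫ p'₁ (α₂ k)) (comp_w w₁ w₂) D (j₀ := k₀) (j₁ := k₁)
    (v ≫ compL (p'₁ := p'₁) (p'₂ := p'₂) D k₀) x₁ h'
  apply compL_ext
  · refine Eq.trans ?_ e3.symm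
    refine Eq.trans (congrArg (· ≫ pullback.fst (D.obj (α₁ (α₂ k₁))).hom (p'₁ (α₂ k₁))) e1) ?_
    refine Eq.trans e2 ?_
    exact tr_congr D (by rw [Category.assoc, Category.assoc, compL_fst]) (Category.assoc _ _ _) _ _
  · exact (tr_pull_snd w₂ (pullDDFamObj w₁ D) (j₀ := k₀) (j₁ := k₁) v x₁ h).trans
      (tr_pull_snd (α := fun k => α₁ (α₂ k)) (p := p₂ ≫ p₁)
        (p' := fun k => p'₂ k ≫ p'₁ (α₂ k)) (comp_w w₁ w₂) D (j₀ := k₀) (j₁ := k₁)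
        (v ≫ compL (p'₁ := p'₁) (p'₂ := p'₂) D k₀) x₁ h').symm

/-- the comparison morphism of descent data. -/
noncomputable def compHom : pullDDFamObj w₂ (pullDDFamObj w₁ D) ⟶
    pullDDFamObj (α := fun k => α₁ (α₂ k)) (p := p₂ ≫ p₁)
      (p' := fun k => p'₂ k ≫ p'₁ (α₂ k)) (comp_w w₁ w₂) D where
  hom k := Over.homMk (compL (p'₁ := p'₁) (p'₂ := p'₂) D k) (compL_snd D k)
  comm := by
    apply comm_of_tr
    intro T k₀ k₁ v x₁ h h'
    exact comp_comm_aux w₁ w₂ D v x₁ h h'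

theorem isIso_compHom_hom (k : ι'') : IsIso ((compHom w₁ w₂ D).hom k) := by
  refine ⟨Over.homMk (compR (p'₁ := p'₁) (p'₂ := p'₂) D k) (compR_snd D k), ?_, ?_⟩
  · ext
    exact compL_compR D k
  · ext
    exact compR_compL D k

theorem isIso_compHom : IsIso (compHom w₁ w₂ D) :=
  haveI := isIso_compHom_hom w₁ w₂ D
  isIso_of_isIso_hom _

theorem compL_natural {D D' : Desc.SchDDFam f} (a : D ⟶ D') (k : ι'') :
    (((pullDDFam w₂).map ((pullDDFam w₁).map a)).hom k).left ≫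
        compL (p'₁ := p'₁) (p'₂ := p'₂) D' k =
      compL (p'₁ := p'₁) (p'₂ := p'₂) D k ≫
        (((pullDDFam (α := fun k => α₁ (α₂ k)) (p := p₂ ≫ p₁)
          (p' := fun k => p'₂ k ≫ p'₁ (α₂ k)) (comp_w w₁ w₂)).map a).hom k).left := by
  have e1 := pullMap_fst w₂ ((pullDDFam w₁).map a) k
  have e2 := pullMap_fst w₁ a (α₂ k)
  have e3 := pullMap_fst (α := fun k => α₁ (α₂ k)) (p := p₂ ≫ p₁)
    (p' := fun k => p'₂ k ≫ p'₁ (α₂ k)) (comp_w w₁ w₂) a k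
  have e4 := pullMap_snd w₂ ((pullDDFam w₁).map a) k
  have e5 := pullMap_snd (α := fun k => α₁ (α₂ k)) (p := p₂ ≫ p₁)
    (p' := fun k => p'₂ k ≫ p'₁ (α₂ k)) (comp_w w₁ w₂) a k
  apply compL_ext
  · refine Eq.trans (congrArg (· ≫ pullback.fst (D'.obj (α₁ (α₂ k))).hom (p'₁ (α₂ k))) e1) ?_
    refine Eq.trans (Category.assoc _ _ _) ?_
    refine Eq.trans (congrArg (pullback.fst _ _ ≫ ·) e2) ?_
    refine Eq.trans ?_ (Category.assoc _ _ _).symm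
    refine Eq.trans ?_ (congrArg (compL (p'₁ := p'₁) (p'₂ := p'₂) D k ≫ ·) e3.symm)
    exact (compL_fst_assoc D k _).symm
  · refine Eq.trans e4 ?_
    refine Eq.trans ?_ (Category.assoc _ _ _).symm
    refine Eq.trans ?_ (congrArg (compL (p'₁ := p'₁) (p'₂ := p'₂) D k ≫ ·) e5.symm)
    exact (compL_snd D k).symm

/-- pulling back along a composite is the composite of the pullbacks. -/
noncomputable def pullCompIso : pullDDFam w₁ ⋙ pullDDFam w₂ ≅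
    pullDDFam (α := fun k => α₁ (α₂ k)) (p := p₂ ≫ p₁)
      (p' := fun k => p'₂ k ≫ p'₁ (α₂ k)) (comp_w w₁ w₂) :=
  NatIso.ofComponents (fun D => @asIso _ _ _ _ (compHom w₁ w₂ D) (isIso_compHom w₁ w₂ D)) (by
    intro D D' a
    ext k
    exact compL_natural w₁ w₂ a k)

end Groth.Agent.H40.DF
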