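import Groth.Agent.H40.DF.Pull

/-!
# Pulling descent data back along an endomorphism of the family over the base is isomorphic to
the identity functor
-/

set_option autoImplicit false
set_option backward.isDefEq.respectTransparency.types false
universe w u

open CategoryTheory CategoryTheory.Limits AlgebraicGeometry

namespace Groth.Agent.H40.DF

open Desc

variable {S : Scheme.{u}} {ι : Type w} {X : ι → Scheme.{u}} {f : ∀ i, X i ⟶ S}
  {α : ι → ι} {b : S ⟶ S} {p' : ∀ j, X j ⟶ X (α j)} (w : ∀ j, p' j ≫ f (α j) = f j ≫ b)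
  (hb : ∀ j, f j ≫ b = f j)

include w hb in
theorem endo_aux (D : Desc.SchDDFam f) (j : ι) :
    (pullback.fst (D.obj (α j)).hom (p' j) ≫ (D.obj (α j)).hom) ≫ f (α j) =
      pullback.snd (D.obj (α j)).hom (p' j) ≫ f j := by
  rw [pullback.condition, Category.assoc, w, hb]

/-- the comparison `V ×_X X ⟶ V`, `(v, x) ↦ φ(v)` over `x`. -/
noncomputable def endoL (D : Desc.SchDDFam f) (j : ι) :
    pullback (D.obj (α j)).hom (p' j) ⟶ (D.obj j).left :=
  tr D (pullback.fst (D.obj (α j)).hom (p' j)) (pullback.snd (D.obj (α j)).hom (p' j))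
    (endo_aux w hb D j)

@[reassoc (attr := simp)]
theorem endoL_hom (D : Desc.SchDDFam f) (j : ι) :
    endoL w hb D j ≫ (D.obj j).hom = pullback.snd (D.obj (α j)).hom (p' j) :=
  tr_hom D _ _ _

theorem comp_endoL (D : Desc.SchDDFam f) (j : ι) {T : Scheme.{u}}
    (r : T ⟶ pullback (D.obj (α j)).hom (p' j)) :
    r ≫ endoL w hb D j = tr D (r ≫ pullback.fst (D.obj (α j)).hom (p' j))
      (r ≫ pullback.snd (D.obj (α j)).hom (p' j)) (by
        simp only [Category.assoc]
        rw [← Category.assoc _ _ (f (α j)), endo_aux w hb D j]) := by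
  unfold endoL
  rw [precomp_tr]

include w hb in
theorem endoR_aux (D : Desc.SchDDFam f) (j : ι) :
    (𝟙 (D.obj j).left ≫ (D.obj j).hom) ≫ f j = ((D.obj j).hom ≫ p' j) ≫ f (α j) := by
  rw [Category.id_comp, Category.assoc, w, hb]

/-- the inverse comparison `V ⟶ V ×_X X`. -/
noncomputable def endoR (D : Desc.SchDDFam f) (j : ι) :
    (D.obj j).left ⟶ pullback (D.obj (α j)).hom (p' j) :=
  pullback.lift (tr D (𝟙 (D.obj j).left) ((D.obj j).hom ≫ p' j) (endoR_aux w hb D j))
    (D.obj j).hom (tr_hom D _ _ _)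

@[reassoc (attr := simp)]
theorem endoR_fst (D : Desc.SchDDFam f) (j : ι) :
    endoR w hb D j ≫ pullback.fst (D.obj (α j)).hom (p' j) =
      tr D (𝟙 (D.obj j).left) ((D.obj j).hom ≫ p' j) (endoR_aux w hb D j) :=
  pullback.lift_fst _ _ _

@[reassoc (attr := simp)]
theorem endoR_snd (D : Desc.SchDDFam f) (j : ι) :
    endoR w hb D j ≫ pullback.snd (D.obj (α j)).hom (p' j) = (D.obj j).hom :=
  pullback.lift_snd _ _ _

theorem endoR_endoL (D : Desc.SchDDFam f) (j : ι) :
    endoR w hb D j ≫ endoL w hb D j = 𝟙 _ := by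
  rw [comp_endoL]
  have h2 : (tr D (𝟙 (D.obj j).left) ((D.obj j).hom ≫ p' j) (endoR_aux w hb D j) ≫
      (D.obj (α j)).hom) ≫ f (α j) = (D.obj j).hom ≫ f j := by
    rw [tr_hom, Category.assoc, w, hb]
  refine Eq.trans (tr_congr D (endoR_fst w hb D j) (endoR_snd w hb D j) _ h2) ?_
  refine Eq.trans (tr_tr D _ _ _ (endoR_aux w hb D j) h2) ?_
  exact tr_self' D _ _ (Category.id_comp _).symm _

theorem endoL_endoR (D : Desc.SchDDFam f) (j : ι) :
    endoL w hb D j ≫ endoR w hb D j = 𝟙 _ := by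
  apply pullback.hom_ext
  · rw [Category.assoc, endoR_fst, Category.id_comp, precomp_tr]
    have h1 := endo_aux w hb D j
    have h2 : (tr D (pullback.fst (D.obj (α j)).hom (p' j))
        (pullback.snd (D.obj (α j)).hom (p' j)) h1 ≫ (D.obj j).hom) ≫ f j =
        (pullback.snd (D.obj (α j)).hom (p' j) ≫ p' j) ≫ f (α j) := by
      rw [tr_hom, Category.assoc, w, hb]
    refine Eq.trans (tr_congr D (Category.comp_id _) (endoL_hom_assoc w hb D j _) _ h2) ?_
    refine Eq.trans (tr_tr D _ _ _ h1 h2) ?_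
    exact tr_self' D _ _ pullback.condition.symm _
  · rw [Category.assoc, endoR_snd, endoL_hom, Category.id_comp]

theorem endo_comm_aux (D : Desc.SchDDFam f) {T : Scheme.{u}} {j₀ j₁ : ι}
    (v : T ⟶ pullback (D.obj (α j₀)).hom (p' j₀)) (x₁ : T ⟶ X j₁)
    (h : (v ≫ pullback.snd (D.obj (α j₀)).hom (p' j₀)) ≫ f j₀ = x₁ ≫ f j₁)
    (h' : ((v ≫ endoL w hb D j₀) ≫ (D.obj j₀).hom) ≫ f j₀ = x₁ ≫ f j₁) :
    tr (pullDDFamObj w D) (i := j₀) (j := j₁) v x₁ h ≫ endoL w hb D j₁ =
      tr D (v ≫ endoL w hb D j₀) x₁ h' := by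
  refine Eq.trans (comp_endoL w hb D j₁ (tr (pullDDFamObj w D) (i := j₀) (j := j₁) v x₁ h)) ?_
  have h1 := pull_aux w D v x₁ h
  have h2 : (tr D (v ≫ pullback.fst (D.obj (α j₀)).hom (p' j₀)) (x₁ ≫ p' j₁) h1 ≫
      (D.obj (α j₁)).hom) ≫ f (α j₁) = x₁ ≫ f j₁ := by
    rw [tr_hom, Category.assoc, w, hb]
  refine Eq.trans (tr_congr D (tr_pull_fst w D v x₁ h) (tr_pull_snd w D v x₁ h) _ h2) ?_
  refine Eq.trans (tr_tr D _ _ _ h1 h2) ?_
  have h3 : ((v ≫ pullback.fst (D.obj (α j₀)).hom (p' j₀)) ≫ (D.obj (α j₀)).hom) ≫ f (α j₀) =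
      (v ≫ pullback.snd (D.obj (α j₀)).hom (p' j₀)) ≫ f j₀ := by
    have := endo_aux w hb D j₀
    simp only [Category.assoc] at this ⊢
    rw [this]
  have h4 : (tr D (v ≫ pullback.fst (D.obj (α j₀)).hom (p' j₀))
      (v ≫ pullback.snd (D.obj (α j₀)).hom (p' j₀)) h3 ≫ (D.obj j₀).hom) ≫ f j₀ =
      x₁ ≫ f j₁ := by
    rw [tr_hom]
    exact h
  refine Eq.trans ?_ (tr_congr D (comp_endoL w hb D j₀ v).symm rfl h4 h')
  exact (tr_tr D _ _ _ h3 h4).symm

/-- the comparison morphism of descent data. -/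
noncomputable def endoHom (D : Desc.SchDDFam f) : pullDDFamObj w D ⟶ D where
  hom j := Over.homMk (endoL w hb D j) (endoL_hom w hb D j)
  comm := by
    apply comm_of_tr
    intro T j₀ j₁ v x₁ h h'
    exact endo_comm_aux w hb D v x₁ h h'

theorem isIso_endoHom_hom (D : Desc.SchDDFam f) (j : ι) : IsIso ((endoHom w hb D).hom j) := by
  refine ⟨Over.homMk (endoR w hb D j) (endoR_snd w hb D j), ?_, ?_⟩
  · ext
    exact endoL_endoR w hb D j
  · ext
    exact endoR_endoL w hb D j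

theorem isIso_endoHom (D : Desc.SchDDFam f) : IsIso (endoHom w hb D) :=
  haveI := isIso_endoHom_hom w hb D
  isIso_of_isIso_hom _

theorem endoL_natural {D D' : Desc.SchDDFam f} (a : D ⟶ D') (j : ι) :
    (((pullDDFam w).map a).hom j).left ≫ endoL w hb D' j = endoL w hb D j ≫ (a.hom j).left := by
  refine Eq.trans (comp_endoL w hb D' j _) ?_
  unfold endoL
  have h' : ((pullback.fst (D.obj (α j)).hom (p' j) ≫ (a.hom (α j)).left) ≫
      (D'.obj (α j)).hom) ≫ f (α j) = pullback.snd (D.obj (α j)).hom (p' j) ≫ f j := by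
    rw [Category.assoc _ _ (D'.obj (α j)).hom, Over.w (a.hom (α j))]
    exact endo_aux w hb D j
  rw [hom_tr a _ _ _ h']
  exact tr_congr D' (pullMap_fst w a j) (pullMap_snd w a j) _ _

/-- pulling back along an endomorphism of the family over the base is isomorphic to the
identity. -/
noncomputable def pullEndoIso : pullDDFam w ≅ 𝟭 (Desc.SchDDFam f) :=
  NatIso.ofComponents (fun D => @asIso _ _ _ _ (endoHom w hb D) (isIso_endoHom w hb D)) (by
    intro D D' a
    ext j
    exact endoL_natural w hb a j)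

end Groth.Agent.H40.DF
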