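import Groth.Prelude.Def_DescFam

/-!
# Transport of points along a descent datum relative to a family (functor-of-points form)
-/

set_option autoImplicit false
set_option backward.isDefEq.respectTransparency.types false
universe w u

open CategoryTheory CategoryTheory.Limits AlgebraicGeometry

namespace Groth.Agent.H40.DF

open Desc

variable {S : Scheme.{u}} {ι : Type w} {X : ι → Scheme.{u}} {f : ∀ i, X i ⟶ S}
  (E : Desc.SchDDFam f)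

theorem phi_congr {T : Scheme.{u}} {i j : ι} {x₀ x₀' : T ⟶ X i} {x₁ x₁' : T ⟶ X j}
    (e₀ : x₀ = x₀') (e₁ : x₁ = x₁') (h : x₀ ≫ f i = x₁ ≫ f j) (h' : x₀' ≫ f i = x₁' ≫ f j)
    (v : Lifts (E.obj i) x₀) (v' : Lifts (E.obj i) x₀') (hv : v.1 = v'.1) :
    (E.φ x₀ x₁ h v).1 = (E.φ x₀' x₁' h' v').1 := by
  subst e₀ e₁
  have : v = v' := Subtype.ext hv
  subst this
  rfl

/-- transport of a `T`-point `v` of `V i` to a point of `V j` over `x₁`. -/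
noncomputable def tr {T : Scheme.{u}} {i j : ι} (v : T ⟶ (E.obj i).left) (x₁ : T ⟶ X j)
    (h : (v ≫ (E.obj i).hom) ≫ f i = x₁ ≫ f j) : T ⟶ (E.obj j).left :=
  (E.φ (v ≫ (E.obj i).hom) x₁ h ⟨v, rfl⟩).1

@[reassoc (attr := simp)]
theorem tr_hom {T : Scheme.{u}} {i j : ι} (v : T ⟶ (E.obj i).left) (x₁ : T ⟶ X j)
    (h : (v ≫ (E.obj i).hom) ≫ f i = x₁ ≫ f j) : tr E v x₁ h ≫ (E.obj j).hom = x₁ :=
  (E.φ (v ≫ (E.obj i).hom) x₁ h ⟨v, rfl⟩).2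

theorem tr_congr {T : Scheme.{u}} {i j : ι} {v v' : T ⟶ (E.obj i).left} {x₁ x₁' : T ⟶ X j}
    (ev : v = v') (e₁ : x₁ = x₁') (h : (v ≫ (E.obj i).hom) ≫ f i = x₁ ≫ f j)
    (h' : (v' ≫ (E.obj i).hom) ≫ f i = x₁' ≫ f j) : tr E v x₁ h = tr E v' x₁' h' := by
  subst ev e₁
  rfl

theorem tr_eq_phi {T : Scheme.{u}} {i j : ι} {x₀ : T ⟶ X i} {x₁ : T ⟶ X j}
    (h : x₀ ≫ f i = x₁ ≫ f j) (v : Lifts (E.obj i) x₀) :
    (E.φ x₀ x₁ h v).1 = tr E v.1 x₁ (by rw [v.2]; exact h) := by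
  unfold tr
  exact phi_congr E v.2.symm rfl _ _ _ _ rfl

@[simp]
theorem tr_self {T : Scheme.{u}} {i : ι} (v : T ⟶ (E.obj i).left) :
    tr E v (v ≫ (E.obj i).hom) rfl = v :=
  congrArg Subtype.val (E.φ_self (v ≫ (E.obj i).hom) ⟨v, rfl⟩)

theorem tr_self' {T : Scheme.{u}} {i : ι} (v : T ⟶ (E.obj i).left) (x₁ : T ⟶ X i)
    (e : x₁ = v ≫ (E.obj i).hom) (h : (v ≫ (E.obj i).hom) ≫ f i = x₁ ≫ f i) :
    tr E v x₁ h = v := by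
  subst e
  exact tr_self E v

theorem tr_tr {T : Scheme.{u}} {i j k : ι} (v : T ⟶ (E.obj i).left) (x₁ : T ⟶ X j)
    (x₂ : T ⟶ X k) (h₁ : (v ≫ (E.obj i).hom) ≫ f i = x₁ ≫ f j)
    (h₂ : (tr E v x₁ h₁ ≫ (E.obj j).hom) ≫ f j = x₂ ≫ f k) :
    tr E (tr E v x₁ h₁) x₂ h₂ = tr E v x₂ (by rw [h₁, ← h₂, tr_hom]) := by
  have h₁₂ : x₁ ≫ f j = x₂ ≫ f k := by rw [← h₂, tr_hom]
  have key := congrArg Subtype.val (E.φ_comp (v ≫ (E.obj i).hom) x₁ x₂ h₁ h₁₂ ⟨v, rfl⟩)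
  refine Eq.trans ?_ key
  unfold tr
  exact phi_congr E (tr_hom E v x₁ h₁) rfl _ _ _ _ rfl

theorem precomp_tr {T T' : Scheme.{u}} (g : T' ⟶ T) {i j : ι} (v : T ⟶ (E.obj i).left)
    (x₁ : T ⟶ X j) (h : (v ≫ (E.obj i).hom) ≫ f i = x₁ ≫ f j) :
    g ≫ tr E v x₁ h = tr E (g ≫ v) (g ≫ x₁) (by
      simp only [Category.assoc] at h ⊢
      rw [h]) := by
  have h' : (g ≫ v ≫ (E.obj i).hom) ≫ f i = (g ≫ x₁) ≫ f j := by
    simp only [Category.assoc] at h ⊢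
    rw [h]
  have key := E.φ_natural g (v ≫ (E.obj i).hom) x₁ h (g ≫ v ≫ (E.obj i).hom) (g ≫ x₁) rfl rfl h'
    ⟨v, rfl⟩ ⟨g ≫ v, Category.assoc _ _ _⟩ rfl
  refine Eq.trans key.symm ?_
  unfold tr
  exact phi_congr E (Category.assoc _ _ _).symm rfl _ _ _ _ rfl

/-- morphisms of descent data commute with transport. -/
theorem hom_tr {E E' : Desc.SchDDFam f} (a : E ⟶ E') {T : Scheme.{u}} {i j : ι}
    (v : T ⟶ (E.obj i).left) (x₁ : T ⟶ X j) (h : (v ≫ (E.obj i).hom) ≫ f i = x₁ ≫ f j)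
    (h' : ((v ≫ (a.hom i).left) ≫ (E'.obj i).hom) ≫ f i = x₁ ≫ f j) :
    tr E v x₁ h ≫ (a.hom j).left = tr E' (v ≫ (a.hom i).left) x₁ h' := by
  have key := a.comm (v ≫ (E.obj i).hom) x₁ h ⟨v, rfl⟩
    ⟨v ≫ (a.hom i).left, by rw [Category.assoc, Over.w (a.hom i)]⟩ rfl
  refine Eq.trans key.symm ?_
  unfold tr
  exact phi_congr E' (by rw [Category.assoc, Over.w (a.hom i)]) rfl _ _ _ _ rfl

/-- a morphism of descent data from a family of morphisms commuting with transport. -/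
theorem comm_of_tr {E E' : Desc.SchDDFam f} (m : ∀ i, E.obj i ⟶ E'.obj i)
    (H : ∀ ⦃T : Scheme.{u}⦄ ⦃i j : ι⦄ (v : T ⟶ (E.obj i).left) (x₁ : T ⟶ X j)
      (h : (v ≫ (E.obj i).hom) ≫ f i = x₁ ≫ f j)
      (h' : ((v ≫ (m i).left) ≫ (E'.obj i).hom) ≫ f i = x₁ ≫ f j),
      tr E v x₁ h ≫ (m j).left = tr E' (v ≫ (m i).left) x₁ h')
    ⦃T : Scheme.{u}⦄ ⦃i j : ι⦄ (x₀ : T ⟶ X i) (x₁ : T ⟶ X j) (h : x₀ ≫ f i = x₁ ≫ f j)
    (v : Lifts (E.obj i) x₀) (w : Lifts (E'.obj i) x₀) (hw : w.1 = v.1 ≫ (m i).left) :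
    (E'.φ x₀ x₁ h w).1 = (E.φ x₀ x₁ h v).1 ≫ (m j).left := by
  rw [tr_eq_phi E h v, tr_eq_phi E' h w]
  have h' : ((v.1 ≫ (m i).left) ≫ (E'.obj i).hom) ≫ f i = x₁ ≫ f j := by
    rw [← hw, w.2]
    exact h
  rw [H v.1 x₁ _ h']
  exact tr_congr E' hw rfl _ _

end Groth.Agent.H40.DF
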